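import Cfsg.Agent.Lib.KnownSimple.L34Lab.Data

set_option autoImplicit false
set_option maxRecDepth 100000

namespace Cfsg.Agent.Lib.KnownSimple.L34Lab

open Cfsg.Agent.Lib.KnownSimple.Lab Cfsg.Agent.Lib.KnownSimple.L34Lab Dat

theorem hL0c0_c0 : allI (fun i => lowOK D.T lN0 3 0 wr0 i) 0 2880 = true := by decide +kernel
theorem hL0c0_u0 : ∀ i, i < 2880 → (fun i => lowOK D.T lN0 3 0 wr0 i) i = true :=
  allI_join allI_start hL0c0_c0 rfl
theorem hL0c0 : ∀ i, i < 2880 → (fun i => lowOK D.T lN0 3 0 wr0 i) i = true := hL0c0_u0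
theorem hL0c1_c0 : allI (fun i => lowOK D.T lN1 4 0 wr0 i) 0 2880 = true := by decide +kernel
theorem hL0c1_u0 : ∀ i, i < 2880 → (fun i => lowOK D.T lN1 4 0 wr0 i) i = true :=
  allI_join allI_start hL0c1_c0 rfl
theorem hL0c1 : ∀ i, i < 2880 → (fun i => lowOK D.T lN1 4 0 wr0 i) i = true := hL0c1_u0
theorem hL0c2_c0 : allI (fun i => lowOK D.T lN2 4 0 wr0 i) 0 2880 = true := by decide +kernel
theorem hL0c2_u0 : ∀ i, i < 2880 → (fun i => lowOK D.T lN2 4 0 wr0 i) i = true :=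
  allI_join allI_start hL0c2_c0 rfl
theorem hL0c2 : ∀ i, i < 2880 → (fun i => lowOK D.T lN2 4 0 wr0 i) i = true := hL0c2_u0
theorem hL1c0_c0 : allI (fun i => lowOK D.T lN0 3 0 wr1 i) 0 2880 = true := by decide +kernel
theorem hL1c0_u0 : ∀ i, i < 2880 → (fun i => lowOK D.T lN0 3 0 wr1 i) i = true :=
  allI_join allI_start hL1c0_c0 rfl
theorem hL1c0 : ∀ i, i < 2880 → (fun i => lowOK D.T lN0 3 0 wr1 i) i = true := hL1c0_u0
theorem hL1c1_c0 : allI (fun i => lowOK D.T lN1 4 0 wr1 i) 0 2880 = true := by decide +kernel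
theorem hL1c1_u0 : ∀ i, i < 2880 → (fun i => lowOK D.T lN1 4 0 wr1 i) i = true :=
  allI_join allI_start hL1c1_c0 rfl
theorem hL1c1 : ∀ i, i < 2880 → (fun i => lowOK D.T lN1 4 0 wr1 i) i = true := hL1c1_u0
theorem hL1c2_c0 : allI (fun i => lowOK D.T lN2 4 0 wr1 i) 0 2880 = true := by decide +kernel
theorem hL1c2_u0 : ∀ i, i < 2880 → (fun i => lowOK D.T lN2 4 0 wr1 i) i = true :=
  allI_join allI_start hL1c2_c0 rfl
theorem hL1c2 : ∀ i, i < 2880 → (fun i => lowOK D.T lN2 4 0 wr1 i) i = true := hL1c2_u0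
theorem hL2c0_c0 : allI (fun i => lowOK D.T lN0 3 0 wr2 i) 0 2880 = true := by decide +kernel
theorem hL2c0_u0 : ∀ i, i < 2880 → (fun i => lowOK D.T lN0 3 0 wr2 i) i = true :=
  allI_join allI_start hL2c0_c0 rfl
theorem hL2c0 : ∀ i, i < 2880 → (fun i => lowOK D.T lN0 3 0 wr2 i) i = true := hL2c0_u0
theorem hL2c1_c0 : allI (fun i => lowOK D.T lN1 4 0 wr2 i) 0 2880 = true := by decide +kernel
theorem hL2c1_u0 : ∀ i, i < 2880 → (fun i => lowOK D.T lN1 4 0 wr2 i) i = true :=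
  allI_join allI_start hL2c1_c0 rfl
theorem hL2c1 : ∀ i, i < 2880 → (fun i => lowOK D.T lN1 4 0 wr2 i) i = true := hL2c1_u0
theorem hL2c2_c0 : allI (fun i => lowOK D.T lN2 4 0 wr2 i) 0 2880 = true := by decide +kernel
theorem hL2c2_u0 : ∀ i, i < 2880 → (fun i => lowOK D.T lN2 4 0 wr2 i) i = true :=
  allI_join allI_start hL2c2_c0 rfl
theorem hL2c2 : ∀ i, i < 2880 → (fun i => lowOK D.T lN2 4 0 wr2 i) i = true := hL2c2_u0
theorem hL3c0_c0 : allI (fun i => lowOK D.T lN0 3 0 wr3 i) 0 2880 = true := by decide +kernel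
theorem hL3c0_u0 : ∀ i, i < 2880 → (fun i => lowOK D.T lN0 3 0 wr3 i) i = true :=
  allI_join allI_start hL3c0_c0 rfl
theorem hL3c0 : ∀ i, i < 2880 → (fun i => lowOK D.T lN0 3 0 wr3 i) i = true := hL3c0_u0
theorem hL3c1_c0 : allI (fun i => lowOK D.T lN1 4 0 wr3 i) 0 2880 = true := by decide +kernel
theorem hL3c1_u0 : ∀ i, i < 2880 → (fun i => lowOK D.T lN1 4 0 wr3 i) i = true :=
  allI_join allI_start hL3c1_c0 rfl
theorem hL3c1 : ∀ i, i < 2880 → (fun i => lowOK D.T lN1 4 0 wr3 i) i = true := hL3c1_u0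
theorem hL3c2_c0 : allI (fun i => lowOK D.T lN2 4 0 wr3 i) 0 2880 = true := by decide +kernel
theorem hL3c2_u0 : ∀ i, i < 2880 → (fun i => lowOK D.T lN2 4 0 wr3 i) i = true :=
  allI_join allI_start hL3c2_c0 rfl
theorem hL3c2 : ∀ i, i < 2880 → (fun i => lowOK D.T lN2 4 0 wr3 i) i = true := hL3c2_u0
theorem hL4c0_c0 : allI (fun i => lowOK D.T lN0 3 1 wr4 i) 0 2880 = true := by decide +kernel
theorem hL4c0_u0 : ∀ i, i < 2880 → (fun i => lowOK D.T lN0 3 1 wr4 i) i = true :=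
  allI_join allI_start hL4c0_c0 rfl
theorem hL4c0 : ∀ i, i < 2880 → (fun i => lowOK D.T lN0 3 1 wr4 i) i = true := hL4c0_u0
theorem hL4c1_c0 : allI (fun i => lowOK D.T lN1 4 2 wr4 i) 0 2880 = true := by decide +kernel
theorem hL4c1_u0 : ∀ i, i < 2880 → (fun i => lowOK D.T lN1 4 2 wr4 i) i = true :=
  allI_join allI_start hL4c1_c0 rfl
theorem hL4c1 : ∀ i, i < 2880 → (fun i => lowOK D.T lN1 4 2 wr4 i) i = true := hL4c1_u0
theorem hL4c2_c0 : allI (fun i => lowOK D.T lN2 4 2 wr4 i) 0 2880 = true := by decide +kernel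
theorem hL4c2_u0 : ∀ i, i < 2880 → (fun i => lowOK D.T lN2 4 2 wr4 i) i = true :=
  allI_join allI_start hL4c2_c0 rfl
theorem hL4c2 : ∀ i, i < 2880 → (fun i => lowOK D.T lN2 4 2 wr4 i) i = true := hL4c2_u0
theorem hL5c0_c0 : allI (fun i => lowOK D.T lN0 3 1 wr5 i) 0 2880 = true := by decide +kernel
theorem hL5c0_u0 : ∀ i, i < 2880 → (fun i => lowOK D.T lN0 3 1 wr5 i) i = true :=
  allI_join allI_start hL5c0_c0 rfl
theorem hL5c0 : ∀ i, i < 2880 → (fun i => lowOK D.T lN0 3 1 wr5 i) i = true := hL5c0_u0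
theorem hL5c1_c0 : allI (fun i => lowOK D.T lN1 4 0 wr5 i) 0 2880 = true := by decide +kernel
theorem hL5c1_u0 : ∀ i, i < 2880 → (fun i => lowOK D.T lN1 4 0 wr5 i) i = true :=
  allI_join allI_start hL5c1_c0 rfl
theorem hL5c1 : ∀ i, i < 2880 → (fun i => lowOK D.T lN1 4 0 wr5 i) i = true := hL5c1_u0
theorem hL5c2_c0 : allI (fun i => lowOK D.T lN2 4 0 wr5 i) 0 2880 = true := by decide +kernel
theorem hL5c2_u0 : ∀ i, i < 2880 → (fun i => lowOK D.T lN2 4 0 wr5 i) i = true :=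
  allI_join allI_start hL5c2_c0 rfl
theorem hL5c2 : ∀ i, i < 2880 → (fun i => lowOK D.T lN2 4 0 wr5 i) i = true := hL5c2_u0
theorem hL6c0_c0 : allI (fun i => lowOK D.T lN0 3 1 wr6 i) 0 2880 = true := by decide +kernel
theorem hL6c0_u0 : ∀ i, i < 2880 → (fun i => lowOK D.T lN0 3 1 wr6 i) i = true :=
  allI_join allI_start hL6c0_c0 rfl
theorem hL6c0 : ∀ i, i < 2880 → (fun i => lowOK D.T lN0 3 1 wr6 i) i = true := hL6c0_u0
theorem hL6c1_c0 : allI (fun i => lowOK D.T lN1 4 2 wr6 i) 0 2880 = true := by decide +kernel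
theorem hL6c1_u0 : ∀ i, i < 2880 → (fun i => lowOK D.T lN1 4 2 wr6 i) i = true :=
  allI_join allI_start hL6c1_c0 rfl
theorem hL6c1 : ∀ i, i < 2880 → (fun i => lowOK D.T lN1 4 2 wr6 i) i = true := hL6c1_u0
theorem hL6c2_c0 : allI (fun i => lowOK D.T lN2 4 2 wr6 i) 0 2880 = true := by decide +kernel
theorem hL6c2_u0 : ∀ i, i < 2880 → (fun i => lowOK D.T lN2 4 2 wr6 i) i = true :=
  allI_join allI_start hL6c2_c0 rfl
theorem hL6c2 : ∀ i, i < 2880 → (fun i => lowOK D.T lN2 4 2 wr6 i) i = true := hL6c2_u0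
theorem hL7c0_c0 : allI (fun i => lowOK D.T lN0 3 0 wr7 i) 0 2880 = true := by decide +kernel
theorem hL7c0_u0 : ∀ i, i < 2880 → (fun i => lowOK D.T lN0 3 0 wr7 i) i = true :=
  allI_join allI_start hL7c0_c0 rfl
theorem hL7c0 : ∀ i, i < 2880 → (fun i => lowOK D.T lN0 3 0 wr7 i) i = true := hL7c0_u0
theorem hL7c1_c0 : allI (fun i => lowOK D.T lN1 4 1 wr7 i) 0 2880 = true := by decide +kernel
theorem hL7c1_u0 : ∀ i, i < 2880 → (fun i => lowOK D.T lN1 4 1 wr7 i) i = true :=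
  allI_join allI_start hL7c1_c0 rfl
theorem hL7c1 : ∀ i, i < 2880 → (fun i => lowOK D.T lN1 4 1 wr7 i) i = true := hL7c1_u0
theorem hL7c2_c0 : allI (fun i => lowOK D.T lN2 4 3 wr7 i) 0 2880 = true := by decide +kernel
theorem hL7c2_u0 : ∀ i, i < 2880 → (fun i => lowOK D.T lN2 4 3 wr7 i) i = true :=
  allI_join allI_start hL7c2_c0 rfl
theorem hL7c2 : ∀ i, i < 2880 → (fun i => lowOK D.T lN2 4 3 wr7 i) i = true := hL7c2_u0
theorem hL8c0_c0 : allI (fun i => lowOK D.T lN0 3 1 wr8 i) 0 2880 = true := by decide +kernel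
theorem hL8c0_u0 : ∀ i, i < 2880 → (fun i => lowOK D.T lN0 3 1 wr8 i) i = true :=
  allI_join allI_start hL8c0_c0 rfl
theorem hL8c0 : ∀ i, i < 2880 → (fun i => lowOK D.T lN0 3 1 wr8 i) i = true := hL8c0_u0
theorem hL8c1_c0 : allI (fun i => lowOK D.T lN1 4 2 wr8 i) 0 2880 = true := by decide +kernel
theorem hL8c1_u0 : ∀ i, i < 2880 → (fun i => lowOK D.T lN1 4 2 wr8 i) i = true :=
  allI_join allI_start hL8c1_c0 rfl
theorem hL8c1 : ∀ i, i < 2880 → (fun i => lowOK D.T lN1 4 2 wr8 i) i = true := hL8c1_u0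
theorem hL8c2_c0 : allI (fun i => lowOK D.T lN2 4 0 wr8 i) 0 2880 = true := by decide +kernel
theorem hL8c2_u0 : ∀ i, i < 2880 → (fun i => lowOK D.T lN2 4 0 wr8 i) i = true :=
  allI_join allI_start hL8c2_c0 rfl
theorem hL8c2 : ∀ i, i < 2880 → (fun i => lowOK D.T lN2 4 0 wr8 i) i = true := hL8c2_u0
theorem hL9c0_c0 : allI (fun i => lowOK D.T lN0 3 0 wr9 i) 0 2880 = true := by decide +kernel
theorem hL9c0_u0 : ∀ i, i < 2880 → (fun i => lowOK D.T lN0 3 0 wr9 i) i = true :=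
  allI_join allI_start hL9c0_c0 rfl
theorem hL9c0 : ∀ i, i < 2880 → (fun i => lowOK D.T lN0 3 0 wr9 i) i = true := hL9c0_u0
theorem hL9c1_c0 : allI (fun i => lowOK D.T lN1 4 2 wr9 i) 0 2880 = true := by decide +kernel
theorem hL9c1_u0 : ∀ i, i < 2880 → (fun i => lowOK D.T lN1 4 2 wr9 i) i = true :=
  allI_join allI_start hL9c1_c0 rfl
theorem hL9c1 : ∀ i, i < 2880 → (fun i => lowOK D.T lN1 4 2 wr9 i) i = true := hL9c1_u0
theorem hL9c2_c0 : allI (fun i => lowOK D.T lN2 4 3 wr9 i) 0 2880 = true := by decide +kernel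
theorem hL9c2_u0 : ∀ i, i < 2880 → (fun i => lowOK D.T lN2 4 3 wr9 i) i = true :=
  allI_join allI_start hL9c2_c0 rfl
theorem hL9c2 : ∀ i, i < 2880 → (fun i => lowOK D.T lN2 4 3 wr9 i) i = true := hL9c2_u0
theorem hL10c0_c0 : allI (fun i => lowOK D.T lN0 3 0 wr10 i) 0 2880 = true := by decide +kernel
theorem hL10c0_u0 : ∀ i, i < 2880 → (fun i => lowOK D.T lN0 3 0 wr10 i) i = true :=
  allI_join allI_start hL10c0_c0 rfl
theorem hL10c0 : ∀ i, i < 2880 → (fun i => lowOK D.T lN0 3 0 wr10 i) i = true := hL10c0_u0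
theorem hL10c1_c0 : allI (fun i => lowOK D.T lN1 4 0 wr10 i) 0 2880 = true := by decide +kernel
theorem hL10c1_u0 : ∀ i, i < 2880 → (fun i => lowOK D.T lN1 4 0 wr10 i) i = true :=
  allI_join allI_start hL10c1_c0 rfl
theorem hL10c1 : ∀ i, i < 2880 → (fun i => lowOK D.T lN1 4 0 wr10 i) i = true := hL10c1_u0
theorem hL10c2_c0 : allI (fun i => lowOK D.T lN2 4 0 wr10 i) 0 2880 = true := by decide +kernel
theorem hL10c2_u0 : ∀ i, i < 2880 → (fun i => lowOK D.T lN2 4 0 wr10 i) i = true :=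
  allI_join allI_start hL10c2_c0 rfl
theorem hL10c2 : ∀ i, i < 2880 → (fun i => lowOK D.T lN2 4 0 wr10 i) i = true := hL10c2_u0
theorem hL11c0_c0 : allI (fun i => lowOK D.T lN0 3 0 wr11 i) 0 2880 = true := by decide +kernel
theorem hL11c0_u0 : ∀ i, i < 2880 → (fun i => lowOK D.T lN0 3 0 wr11 i) i = true :=
  allI_join allI_start hL11c0_c0 rfl
theorem hL11c0 : ∀ i, i < 2880 → (fun i => lowOK D.T lN0 3 0 wr11 i) i = true := hL11c0_u0
theorem hL11c1_c0 : allI (fun i => lowOK D.T lN1 4 0 wr11 i) 0 2880 = true := by decide +kernel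
theorem hL11c1_u0 : ∀ i, i < 2880 → (fun i => lowOK D.T lN1 4 0 wr11 i) i = true :=
  allI_join allI_start hL11c1_c0 rfl
theorem hL11c1 : ∀ i, i < 2880 → (fun i => lowOK D.T lN1 4 0 wr11 i) i = true := hL11c1_u0

end Cfsg.Agent.Lib.KnownSimple.L34Lab
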