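import Cfsg.Agent.Lib.KnownSimple.L34Lab.Data

set_option autoImplicit false
set_option maxRecDepth 100000

namespace Cfsg.Agent.Lib.KnownSimple.L34Lab

open Cfsg.Agent.Lib.KnownSimple.Lab Cfsg.Agent.Lib.KnownSimple.L34Lab Dat

theorem hL11c2_c0 : allI (fun i => lowOK D.T lN2 4 0 wr11 i) 0 2880 = true := by decide +kernel
theorem hL11c2_u0 : ∀ i, i < 2880 → (fun i => lowOK D.T lN2 4 0 wr11 i) i = true :=
  allI_join allI_start hL11c2_c0 rfl
theorem hL11c2 : ∀ i, i < 2880 → (fun i => lowOK D.T lN2 4 0 wr11 i) i = true := hL11c2_u0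
theorem hLUc0_c0 : allI (fun i => lowOK D.T lN0 3 2 wU i) 0 2880 = true := by decide +kernel
theorem hLUc0_u0 : ∀ i, i < 2880 → (fun i => lowOK D.T lN0 3 2 wU i) i = true :=
  allI_join allI_start hLUc0_c0 rfl
theorem hLUc0 : ∀ i, i < 2880 → (fun i => lowOK D.T lN0 3 2 wU i) i = true := hLUc0_u0
theorem hLUc1_c0 : allI (fun i => lowOK D.T lN1 4 0 wU i) 0 2880 = true := by decide +kernel
theorem hLUc1_u0 : ∀ i, i < 2880 → (fun i => lowOK D.T lN1 4 0 wU i) i = true :=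
  allI_join allI_start hLUc1_c0 rfl
theorem hLUc1 : ∀ i, i < 2880 → (fun i => lowOK D.T lN1 4 0 wU i) i = true := hLUc1_u0
theorem hLUc2_c0 : allI (fun i => lowOK D.T lN2 4 0 wU i) 0 2880 = true := by decide +kernel
theorem hLUc2_u0 : ∀ i, i < 2880 → (fun i => lowOK D.T lN2 4 0 wU i) i = true :=
  allI_join allI_start hLUc2_c0 rfl
theorem hLUc2 : ∀ i, i < 2880 → (fun i => lowOK D.T lN2 4 0 wU i) i = true := hLUc2_u0
theorem hLVc0_c0 : allI (fun i => lowOK D.T lN0 3 0 wV i) 0 2880 = true := by decide +kernel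
theorem hLVc0_u0 : ∀ i, i < 2880 → (fun i => lowOK D.T lN0 3 0 wV i) i = true :=
  allI_join allI_start hLVc0_c0 rfl
theorem hLVc0 : ∀ i, i < 2880 → (fun i => lowOK D.T lN0 3 0 wV i) i = true := hLVc0_u0
theorem hLVc1_c0 : allI (fun i => lowOK D.T lN1 4 0 wV i) 0 2880 = true := by decide +kernel
theorem hLVc1_u0 : ∀ i, i < 2880 → (fun i => lowOK D.T lN1 4 0 wV i) i = true :=
  allI_join allI_start hLVc1_c0 rfl
theorem hLVc1 : ∀ i, i < 2880 → (fun i => lowOK D.T lN1 4 0 wV i) i = true := hLVc1_u0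
theorem hLVc2_c0 : allI (fun i => lowOK D.T lN2 4 0 wV i) 0 2880 = true := by decide +kernel
theorem hLVc2_u0 : ∀ i, i < 2880 → (fun i => lowOK D.T lN2 4 0 wV i) i = true :=
  allI_join allI_start hLVc2_c0 rfl
theorem hLVc2 : ∀ i, i < 2880 → (fun i => lowOK D.T lN2 4 0 wV i) i = true := hLVc2_u0
theorem hLKc0_c0 : allI (fun i => lowOK D.T lN0 3 0 w3 i) 0 2880 = true := by decide +kernel
theorem hLKc0_u0 : ∀ i, i < 2880 → (fun i => lowOK D.T lN0 3 0 w3 i) i = true :=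
  allI_join allI_start hLKc0_c0 rfl
theorem hLKc0 : ∀ i, i < 2880 → (fun i => lowOK D.T lN0 3 0 w3 i) i = true := hLKc0_u0
theorem hLKc1_c0 : allI (fun i => lowOK D.T lN1 4 0 w3 i) 0 2880 = true := by decide +kernel
theorem hLKc1_u0 : ∀ i, i < 2880 → (fun i => lowOK D.T lN1 4 0 w3 i) i = true :=
  allI_join allI_start hLKc1_c0 rfl
theorem hLKc1 : ∀ i, i < 2880 → (fun i => lowOK D.T lN1 4 0 w3 i) i = true := hLKc1_u0
theorem hLKc2_c0 : allI (fun i => lowOK D.T lN2 4 0 w3 i) 0 2880 = true := by decide +kernel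
theorem hLKc2_u0 : ∀ i, i < 2880 → (fun i => lowOK D.T lN2 4 0 w3 i) i = true :=
  allI_join allI_start hLKc2_c0 rfl
theorem hLKc2 : ∀ i, i < 2880 → (fun i => lowOK D.T lN2 4 0 w3 i) i = true := hLKc2_u0
theorem hLP3c0_c0 : allI (fun i => lowOK D.T lN0 3 1 pw3 i) 0 2880 = true := by decide +kernel
theorem hLP3c0_u0 : ∀ i, i < 2880 → (fun i => lowOK D.T lN0 3 1 pw3 i) i = true :=
  allI_join allI_start hLP3c0_c0 rfl
theorem hLP3c0 : ∀ i, i < 2880 → (fun i => lowOK D.T lN0 3 1 pw3 i) i = true := hLP3c0_u0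
theorem hLP3c1_c0 : allI (fun i => lowOK D.T lN1 4 0 pw3 i) 0 2880 = true := by decide +kernel
theorem hLP3c1_u0 : ∀ i, i < 2880 → (fun i => lowOK D.T lN1 4 0 pw3 i) i = true :=
  allI_join allI_start hLP3c1_c0 rfl
theorem hLP3c1 : ∀ i, i < 2880 → (fun i => lowOK D.T lN1 4 0 pw3 i) i = true := hLP3c1_u0
theorem hLP3c2_c0 : allI (fun i => lowOK D.T lN2 4 0 pw3 i) 0 2880 = true := by decide +kernel
theorem hLP3c2_u0 : ∀ i, i < 2880 → (fun i => lowOK D.T lN2 4 0 pw3 i) i = true :=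
  allI_join allI_start hLP3c2_c0 rfl
theorem hLP3c2 : ∀ i, i < 2880 → (fun i => lowOK D.T lN2 4 0 pw3 i) i = true := hLP3c2_u0

end Cfsg.Agent.Lib.KnownSimple.L34Lab
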